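import Mathlib
import Cfsg.Agent.Lib.Helper17.ReeTor.Pkgs2

set_option autoImplicit false

/-! (AR4) for the tori of the small Ree groups: the number of elements of order dividing
`Q = q ^ 2 - q + 1`. -/

namespace Cfsg.Agent.Lib.Helper65.ReeTor

theorem pkgAR4 : Cfsg.Agent.Lib.Helper17.ReeTor.PkgAR4 := by
  intro m q nG nI n3 nH nA nE hm hq hG hI h3 hH hA hsum
  have hq27 : 27 ≤ q := by
    rw [hq]
    calc 27 = 3 ^ 3 := by norm_num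
      _ ≤ 3 ^ (2 * m + 1) := Nat.pow_le_pow_right (by norm_num) (by omega)
  obtain ⟨s, rfl⟩ := Nat.exists_eq_add_of_le' (show 3 ≤ q by omega)
  have e1 : s + 3 - 1 = s + 2 := by omega
  have e2 : s + 3 - 3 = s := by omega
  have e3 : s + 3 - 2 = s + 1 := by omega
  have e4 : (s + 3) ^ 2 - 1 = s ^ 2 + 6 * s + 8 := by
    apply Nat.sub_eq_of_eq_add; ring
  have e5 : 2 * (s + 3) ^ 3 - (s + 3) ^ 2 - 1 = 2 * s ^ 3 + 17 * s ^ 2 + 48 * s + 44 := by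
    apply Nat.sub_eq_of_eq_add
    apply Nat.sub_eq_of_eq_add
    ring
  rw [e1] at hG hH
  rw [e2] at hH hA
  rw [e4] at hI
  rw [e5] at h3
  rw [e3, e4]
  have hD : (6 * ((s : ℤ) + 3) * ((s : ℤ) ^ 2 + 6 * s + 8)) ≠ 0 := by positivity
  have hGz : (nG : ℤ) = ((s : ℤ) + 3) ^ 3 * (((s : ℤ) + 3) ^ 3 + 1) * ((s : ℤ) + 2) := by
    exact_mod_cast hG
  have hIz : (nI : ℤ) * (((s : ℤ) + 3) * ((s : ℤ) ^ 2 + 6 * s + 8)) = nG := by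
    exact_mod_cast hI
  have h3z : (n3 : ℤ) = (((s : ℤ) + 3) ^ 3 + 1) * (2 * (s : ℤ) ^ 3 + 17 * s ^ 2 + 48 * s + 44) := by
    exact_mod_cast h3
  have hHz : (nH : ℤ) * (2 * ((s : ℤ) + 2)) = s * nG := by exact_mod_cast hH
  have hAz : (nA : ℤ) * (6 * ((s : ℤ) + 3 + 1)) = s * nG := by exact_mod_cast hA
  have hsumz : (nG : ℤ) = 1 + nI + n3 + nH + nA + nE := by exact_mod_cast hsum
  have key : (3 * nE : ℤ) = ((s : ℤ) + 3) ^ 4 * ((s : ℤ) ^ 2 + 6 * s + 8) * ((s : ℤ) + 1) := by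
    apply mul_left_cancel₀ hD
    linear_combination (-3 * (6 * ((s : ℤ) + 3) * ((s : ℤ) ^ 2 + 6 * s + 8))) * hsumz
      + (-18 : ℤ) * hIz + (-9 * ((s : ℤ) + 3) * ((s : ℤ) + 4)) * hHz
      + (-3 * ((s : ℤ) + 3) * ((s : ℤ) + 2)) * hAz
      + (-3 * (6 * ((s : ℤ) + 3) * ((s : ℤ) ^ 2 + 6 * s + 8))) * h3z
      + (3 * (6 * ((s : ℤ) + 3) * ((s : ℤ) ^ 2 + 6 * s + 8)) - 18
          - 9 * ((s : ℤ) + 3) * ((s : ℤ) + 4) * s - 3 * ((s : ℤ) + 3) * ((s : ℤ) + 2) * s) * hGz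
  exact_mod_cast key

end Cfsg.Agent.Lib.Helper65.ReeTor
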