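import Mathlib
import Cfsg.Agent.Lib.Helper17.ReeTor.Pkgs2

set_option autoImplicit false

/-! (COV) for the tori of the small Ree groups: the partition of the elements by their
orders. -/

universe u

namespace Cfsg.Agent.Lib.Helper65.ReeTor

/-- arithmetic facts about `q = 3 ^ (2 m + 1)` and `Q = q ^ 2 - q + 1` -/
theorem cover_arith (m q : ℕ) (hm : 1 ≤ m) (hq : q = 3 ^ (2 * m + 1)) :
    27 ≤ q ∧ 3 ∣ q ∧ (∀ p : ℕ, p.Prime → p ∣ q → p = 3) ∧
    Nat.Coprime (q ^ 2 - q + 1) q ∧ Nat.Coprime (q ^ 2 - q + 1) (q - 1) ∧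
    Nat.Coprime (q ^ 2 - q + 1) (q + 1) ∧ ¬ 2 ∣ q ^ 2 - q + 1 ∧ ¬ 3 ∣ q ^ 2 - q + 1 ∧
    q ^ 3 * (q ^ 3 + 1) * (q - 1) = (q ^ 3 * ((q - 1) * (q + 1))) * (q ^ 2 - q + 1) ∧
    q ^ 2 - 1 = (q - 1) * (q + 1) := by
  have hq27 : 27 ≤ q := by
    rw [hq]
    calc 27 = 3 ^ 3 := by norm_num
      _ ≤ 3 ^ (2 * m + 1) := Nat.pow_le_pow_right (by norm_num) (by omega)
  have h3q : 3 ∣ q := by rw [hq]; exact dvd_pow_self 3 (by omega)
  have hp3 : ∀ p : ℕ, p.Prime → p ∣ q → p = 3 := by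
    intro p hp hpq
    rw [hq] at hpq
    exact (Nat.prime_dvd_prime_iff_eq hp Nat.prime_three).mp (hp.dvd_of_dvd_pow hpq)
  have hQ : q ^ 2 - q + 1 = q * (q - 1) + 1 := by
    rw [Nat.mul_sub_one, pow_two]
  have hc1 : Nat.Coprime (q ^ 2 - q + 1) q := by
    rw [hQ]
    apply Nat.coprime_of_dvd'
    intro k _ hk1 hk2
    exact (Nat.dvd_add_right (Dvd.dvd.mul_right hk2 _)).mp hk1
  have hc2 : Nat.Coprime (q ^ 2 - q + 1) (q - 1) := by
    rw [hQ]
    apply Nat.coprime_of_dvd'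
    intro k _ hk1 hk2
    exact (Nat.dvd_add_right (Dvd.dvd.mul_left hk2 _)).mp hk1
  have hQ3 : ¬ 3 ∣ q ^ 2 - q + 1 := by
    rw [hQ]
    intro h
    have := (Nat.dvd_add_right (Dvd.dvd.mul_right h3q (q - 1))).mp h
    omega
  have hQ2 : ¬ 2 ∣ q ^ 2 - q + 1 := by
    rw [hQ]
    intro h
    obtain ⟨k, hk⟩ := Nat.even_mul_pred_self q
    omega
  obtain ⟨s, rfl⟩ := Nat.exists_eq_add_of_le' (show 3 ≤ q by omega)
  have e1 : s + 3 - 1 = s + 2 := by omega
  have e2 : (s + 3) ^ 2 - (s + 3) = s ^ 2 + 5 * s + 6 := by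
    apply Nat.sub_eq_of_eq_add; ring
  have e3 : (s + 3) ^ 2 - 1 = (s + 2) * (s + 3 + 1) := by
    apply Nat.sub_eq_of_eq_add; ring
  have hc3 : Nat.Coprime ((s + 3) ^ 2 - (s + 3) + 1) (s + 3 + 1) := by
    rw [e2]
    apply Nat.coprime_of_dvd'
    intro k hkp hk1 hk2
    have h4 : s ^ 2 + 5 * s + 6 + 1 = (s + 3 + 1) * (s + 1) + 3 := by ring
    rw [h4] at hk1
    have h5 : k ∣ 3 := (Nat.dvd_add_right (Dvd.dvd.mul_right hk2 _)).mp hk1
    have h6 : k = 3 := (Nat.prime_dvd_prime_iff_eq hkp Nat.prime_three).mp h5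
    subst h6
    omega
  refine ⟨hq27, h3q, hp3, hc1, hc2, hc3, hQ2, hQ3, ?_, ?_⟩
  · rw [e1, e2]; ring
  · rw [e1, e3]

/-- counting a subtype by an indicator sum -/
theorem natCard_subtype_eq_sum {G : Type u} [Fintype G] (P : G → Prop) [DecidablePred P] :
    Nat.card {g : G // P g} = ∑ g : G, (if P g then 1 else 0) := by
  rw [Nat.card_eq_fintype_card, Fintype.card_subtype, Finset.card_filter]

theorem pkgCover : Cfsg.Agent.Lib.Helper17.ReeTor.PkgCover.{u} := by
  intro G _ _ m q hm hq hG h4 hI hm1 hp1 h3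
  obtain ⟨hq27, h3q, hp3, hc1, hc2, hc3, hQ2, hQ3, hGf, hsq⟩ := cover_arith m q hm hq
  rw [hGf] at hG
  -- primes dividing `Q`
  have hQp : ∀ p : ℕ, p.Prime → p ∣ q ^ 2 - q + 1 → ¬ p ∣ q ∧ ¬ p ∣ q - 1 ∧ ¬ p ∣ q + 1 := by
    intro p hp hpQ
    refine ⟨fun h => ?_, fun h => ?_, fun h => ?_⟩
    · have h1 := Nat.dvd_gcd hpQ h
      rw [Nat.Coprime.gcd_eq_one hc1] at h1
      exact hp.one_lt.ne' (Nat.dvd_one.mp h1)
    · have h1 := Nat.dvd_gcd hpQ h
      rw [Nat.Coprime.gcd_eq_one hc2] at h1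
      exact hp.one_lt.ne' (Nat.dvd_one.mp h1)
    · have h1 := Nat.dvd_gcd hpQ h
      rw [Nat.Coprime.gcd_eq_one hc3] at h1
      exact hp.one_lt.ne' (Nat.dvd_one.mp h1)
  -- (1)
  have claim1 : ∀ p : ℕ, p.Prime → p ∣ q ^ 2 - q + 1 → ∀ y x : G, orderOf y = p →
      x * y = y * x → x ^ (q ^ 2 - q + 1) = 1 := by
    intro p hp hpQ y x hy hxy
    obtain ⟨hpq, hpm, hpp⟩ := hQp p hp hpQ
    have hn0 : orderOf x ≠ 0 := (orderOf_pos x).ne'
    have hcop : Nat.Coprime (orderOf x) (q ^ 3 * ((q - 1) * (q + 1))) := by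
      apply Nat.coprime_of_dvd
      intro p' hp' hp'n hp'R
      have hx'o : orderOf (x ^ (orderOf x / p')) = p' := orderOf_pow_orderOf_div hn0 hp'n
      have hx'y : x ^ (orderOf x / p') * y = y * x ^ (orderOf x / p') :=
        ((show Commute x y from hxy).pow_left _).eq
      have hymem : y ∈ Subgroup.centralizer ({x ^ (orderOf x / p')} : Set G) := by
        rw [Subgroup.mem_centralizer_singleton_iff]; exact hx'y.symm
      have hpC : p ∣ Nat.card ↥(Subgroup.centralizer ({x ^ (orderOf x / p')} : Set G)) := by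
        rw [← hy]; exact Subgroup.orderOf_dvd_natCard _ hymem
      by_cases h2 : p' = 2
      · rw [hI _ (by rw [hx'o, h2]), hsq] at hpC
        rcases (Nat.Prime.dvd_mul hp).mp hpC with h | h
        · exact hpq h
        · rcases (Nat.Prime.dvd_mul hp).mp h with h | h
          · exact hpm h
          · exact hpp h
      · rcases (Nat.Prime.dvd_mul hp').mp hp'R with h | h
        · have h3' : p' = 3 := hp3 p' hp' (hp'.dvd_of_dvd_pow h)
          subst h3'
          have h5 : (x ^ (orderOf x / 3)) ^ 3 = 1 := by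
            have h8 := pow_orderOf_eq_one (x ^ (orderOf x / 3))
            rw [hx'o] at h8
            exact h8
          have h6 : x ^ (orderOf x / 3) = 1 := h3 p hp hpQ y _ hy hx'y h5
          rw [h6, orderOf_one] at hx'o
          omega
        · rcases (Nat.Prime.dvd_mul hp').mp h with h | h
          · rw [hm1 p' hp' h2 h _ hx'o] at hpC; exact hpm hpC
          · rw [hp1 p' hp' h2 h _ hx'o] at hpC; exact hpp hpC
    have hdvd : orderOf x ∣ q ^ 2 - q + 1 := by
      have h1 : orderOf x ∣ (q ^ 3 * ((q - 1) * (q + 1))) * (q ^ 2 - q + 1) := by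
        rw [← hG]; exact orderOf_dvd_natCard x
      exact hcop.dvd_of_dvd_mul_left h1
    exact orderOf_dvd_iff_pow_eq_one.mp hdvd
  -- (2)
  have claim2 : ∀ g : G, g = 1 ∨ orderOf g = 2 ∨ 3 ∣ orderOf g ∨
      (g ^ (q - 1) = 1 ∧ g ^ 2 ≠ 1) ∨ (g ^ (q + 1) = 1 ∧ g ^ 2 ≠ 1) ∨
      (g ≠ 1 ∧ g ^ (q ^ 2 - q + 1) = 1) := by
    intro g
    by_cases hg1 : g = 1
    · exact Or.inl hg1
    by_cases hg2 : orderOf g = 2
    · exact Or.inr (Or.inl hg2)
    by_cases hg3 : 3 ∣ orderOf g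
    · exact Or.inr (Or.inr (Or.inl hg3))
    right; right; right
    have hn0 : orderOf g ≠ 0 := (orderOf_pos g).ne'
    have hn1 : orderOf g ≠ 1 := by rwa [Ne, orderOf_eq_one_iff]
    have hgsq : g ^ 2 ≠ 1 := by
      intro h
      have hd : orderOf g ∣ 2 := orderOf_dvd_of_pow_eq_one h
      rcases (Nat.dvd_prime Nat.prime_two).mp hd with h' | h'
      · exact hn1 h'
      · exact hg2 h'
    have hodd : ∃ l : ℕ, l.Prime ∧ l ∣ orderOf g ∧ l ≠ 2 := by
      by_contra hcon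
      push Not at hcon
      have hpow := Nat.eq_prime_pow_of_unique_prime_dvd hn0 (p := 2)
        (fun {d} hd hdn => hcon d hd hdn)
      have ha2 : 2 ≤ (orderOf g).primeFactorsList.length := by
        by_contra hlt
        have h01 : (orderOf g).primeFactorsList.length = 0 ∨
            (orderOf g).primeFactorsList.length = 1 := by omega
        rcases h01 with h | h
        · rw [h] at hpow; exact hn1 (by simpa using hpow)
        · rw [h] at hpow; exact hg2 (by simpa using hpow)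
      have h4d : 4 ∣ orderOf g := by
        rw [hpow]
        calc (4 : ℕ) = 2 ^ 2 := by norm_num
          _ ∣ 2 ^ (orderOf g).primeFactorsList.length := pow_dvd_pow 2 ha2
      exact h4 _ (orderOf_pow_orderOf_div hn0 h4d)
    obtain ⟨l, hl, hln, hl2⟩ := hodd
    have hl3 : l ≠ 3 := by rintro rfl; exact hg3 hln
    have hyo : orderOf (g ^ (orderOf g / l)) = l := orderOf_pow_orderOf_div hn0 hln
    have hgy : g * g ^ (orderOf g / l) = g ^ (orderOf g / l) * g :=
      ((Commute.refl g).pow_right _).eq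
    have hgmem : g ∈ Subgroup.centralizer ({g ^ (orderOf g / l)} : Set G) := by
      rw [Subgroup.mem_centralizer_singleton_iff]; exact hgy
    have hlG : l ∣ (q ^ 3 * ((q - 1) * (q + 1))) * (q ^ 2 - q + 1) := by
      rw [← hG]; exact hln.trans (orderOf_dvd_natCard g)
    rcases (Nat.Prime.dvd_mul hl).mp hlG with h | h
    · rcases (Nat.Prime.dvd_mul hl).mp h with h | h
      · exact absurd (hp3 l hl (hl.dvd_of_dvd_pow h)) hl3
      · rcases (Nat.Prime.dvd_mul hl).mp h with h | h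
        · left
          refine ⟨?_, hgsq⟩
          have h7 := Subgroup.orderOf_dvd_natCard _ hgmem
          rw [hm1 l hl hl2 h _ hyo] at h7
          exact orderOf_dvd_iff_pow_eq_one.mp h7
        · right; left
          refine ⟨?_, hgsq⟩
          have h7 := Subgroup.orderOf_dvd_natCard _ hgmem
          rw [hp1 l hl hl2 h _ hyo] at h7
          exact orderOf_dvd_iff_pow_eq_one.mp h7
    · right; right
      exact ⟨hg1, claim1 l hl h _ g hyo hgy⟩
  refine ⟨claim1, claim2, ?_⟩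
  -- (3)
  classical
  have hft : Fintype G := Fintype.ofFinite G
  have e01 : ∀ g : G, g = 1 → orderOf g = 2 → False := by
    rintro g rfl h; rw [orderOf_one] at h; omega
  have e02 : ∀ g : G, g = 1 → 3 ∣ orderOf g → False := by
    rintro g rfl h; rw [orderOf_one] at h; omega
  have e03 : ∀ g : G, g = 1 → g ^ 2 ≠ 1 → False := by
    rintro g rfl h; exact h (one_pow 2)
  have e12 : ∀ g : G, orderOf g = 2 → 3 ∣ orderOf g → False := by
    intro g h h'; rw [h] at h'; omega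
  have e13 : ∀ g : G, orderOf g = 2 → g ^ 2 ≠ 1 → False := by
    intro g h h'; apply h'; rw [← h]; exact pow_orderOf_eq_one g
  have e15 : ∀ g : G, orderOf g = 2 → g ^ (q ^ 2 - q + 1) = 1 → False := by
    intro g h h'
    have := orderOf_dvd_of_pow_eq_one h'
    rw [h] at this
    exact hQ2 this
  have e23 : ∀ g : G, 3 ∣ orderOf g → g ^ (q - 1) = 1 → False := by
    intro g h h'
    have := h.trans (orderOf_dvd_of_pow_eq_one h')
    omega
  have e24 : ∀ g : G, 3 ∣ orderOf g → g ^ (q + 1) = 1 → False := by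
    intro g h h'
    have := h.trans (orderOf_dvd_of_pow_eq_one h')
    omega
  have e25 : ∀ g : G, 3 ∣ orderOf g → g ^ (q ^ 2 - q + 1) = 1 → False := by
    intro g h h'
    exact hQ3 (h.trans (orderOf_dvd_of_pow_eq_one h'))
  have e34 : ∀ g : G, g ^ (q - 1) = 1 → g ^ (q + 1) = 1 → g ^ 2 = 1 := by
    intro g h h'
    have h1 := Nat.dvd_sub (orderOf_dvd_of_pow_eq_one h') (orderOf_dvd_of_pow_eq_one h)
    have h2 : q + 1 - (q - 1) = 2 := by omega
    rw [h2] at h1
    exact orderOf_dvd_iff_pow_eq_one.mp h1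
  have e35 : ∀ g : G, g ^ (q - 1) = 1 → g ^ (q ^ 2 - q + 1) = 1 → g = 1 := by
    intro g h h'
    have h1 := Nat.dvd_gcd (orderOf_dvd_of_pow_eq_one h') (orderOf_dvd_of_pow_eq_one h)
    rw [Nat.Coprime.gcd_eq_one hc2] at h1
    exact orderOf_eq_one_iff.mp (Nat.dvd_one.mp h1)
  have e45 : ∀ g : G, g ^ (q + 1) = 1 → g ^ (q ^ 2 - q + 1) = 1 → g = 1 := by
    intro g h h'
    have h1 := Nat.dvd_gcd (orderOf_dvd_of_pow_eq_one h') (orderOf_dvd_of_pow_eq_one h)
    rw [Nat.Coprime.gcd_eq_one hc3] at h1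
    exact orderOf_eq_one_iff.mp (Nat.dvd_one.mp h1)
  have hkey : ∀ g : G, (1 : ℕ) = (if g = 1 then 1 else 0) + (if orderOf g = 2 then 1 else 0)
      + (if 3 ∣ orderOf g then 1 else 0) + (if (g ^ (q - 1) = 1 ∧ g ^ 2 ≠ 1) then 1 else 0)
      + (if (g ^ (q + 1) = 1 ∧ g ^ 2 ≠ 1) then 1 else 0)
      + (if (g ≠ 1 ∧ g ^ (q ^ 2 - q + 1) = 1) then 1 else 0) := by
    intro g
    rcases claim2 g with h | h | h | h | h | h
    · rw [if_pos h, if_neg (fun h' => e01 g h h'), if_neg (fun h' => e02 g h h'),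
        if_neg (fun h' => e03 g h h'.2), if_neg (fun h' => e03 g h h'.2),
        if_neg (fun h' => h'.1 h)]
    · rw [if_neg (fun h' => e01 g h' h), if_pos h, if_neg (fun h' => e12 g h h'),
        if_neg (fun h' => e13 g h h'.2), if_neg (fun h' => e13 g h h'.2),
        if_neg (fun h' => e15 g h h'.2)]
    · rw [if_neg (fun h' => e02 g h' h), if_neg (fun h' => e12 g h' h), if_pos h,
        if_neg (fun h' => e23 g h h'.1), if_neg (fun h' => e24 g h h'.1),
        if_neg (fun h' => e25 g h h'.2)]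
    · rw [if_neg (fun h' => e03 g h' h.2), if_neg (fun h' => e13 g h' h.2),
        if_neg (fun h' => e23 g h' h.1), if_pos h,
        if_neg (fun h' => h.2 (e34 g h.1 h'.1)),
        if_neg (fun h' => h'.1 (e35 g h.1 h'.2))]
    · rw [if_neg (fun h' => e03 g h' h.2), if_neg (fun h' => e13 g h' h.2),
        if_neg (fun h' => e24 g h' h.1), if_neg (fun h' => h.2 (e34 g h'.1 h.1)), if_pos h,
        if_neg (fun h' => h'.1 (e45 g h.1 h'.2))]
    · rw [if_neg (fun h' => h.1 h'), if_neg (fun h' => e15 g h' h.2),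
        if_neg (fun h' => e25 g h' h.2), if_neg (fun h' => h.1 (e35 g h'.1 h.2)),
        if_neg (fun h' => h.1 (e45 g h'.1 h.2)), if_pos h]
  have s0 : ∑ g : G, (if g = 1 then 1 else 0) = 1 := by simp
  have s1 := natCard_subtype_eq_sum (fun g : G => orderOf g = 2)
  have s2 := natCard_subtype_eq_sum (fun g : G => 3 ∣ orderOf g)
  have s3 := natCard_subtype_eq_sum (fun g : G => g ^ (q - 1) = 1 ∧ g ^ 2 ≠ 1)
  have s4 := natCard_subtype_eq_sum (fun g : G => g ^ (q + 1) = 1 ∧ g ^ 2 ≠ 1)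
  have s5 := natCard_subtype_eq_sum (fun g : G => g ≠ 1 ∧ g ^ (q ^ 2 - q + 1) = 1)
  calc Nat.card G = ∑ _g : G, 1 := by
        rw [Nat.card_eq_fintype_card, Fintype.card_eq_sum_ones]
    _ = ∑ g : G, ((if g = 1 then 1 else 0) + (if orderOf g = 2 then 1 else 0)
      + (if 3 ∣ orderOf g then 1 else 0) + (if (g ^ (q - 1) = 1 ∧ g ^ 2 ≠ 1) then 1 else 0)
      + (if (g ^ (q + 1) = 1 ∧ g ^ 2 ≠ 1) then 1 else 0)
      + (if (g ≠ 1 ∧ g ^ (q ^ 2 - q + 1) = 1) then 1 else 0)) :=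
        Finset.sum_congr rfl (fun g _ => hkey g)
    _ = 1 + Nat.card {g : G // orderOf g = 2} + Nat.card {g : G // 3 ∣ orderOf g} +
      Nat.card {g : G // g ^ (q - 1) = 1 ∧ g ^ 2 ≠ 1} +
      Nat.card {g : G // g ^ (q + 1) = 1 ∧ g ^ 2 ≠ 1} +
      Nat.card {g : G // g ≠ 1 ∧ g ^ (q ^ 2 - q + 1) = 1} := by
        rw [s1, s2, s3, s4, s5]
        simp only [Finset.sum_add_distrib]
        rw [s0]

end Cfsg.Agent.Lib.Helper65.ReeTor
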