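import Mathlib
import Cfsg.Agent.Lib.Helper17.ReeTor.Pkgs

set_option autoImplicit false

/-!
# (LA2) for the tori of the small Ree groups

`h z h⁻¹ = z ^ k` for a `7 × 7` matrix `z` of prime order `p` over a field with `q` elements,
where `q` has order `6` modulo `p`, forces `z ^ (k ^ 6) = z`.

Proof: the minimal polynomial `m` of `z` has degree at most `7` and an irreducible factor `m₁`
dividing `1 + X + ... + X ^ (p - 1)`; in the field `E = K[X]/(m₁)` the class `ζ` of `X` has
order `p`, `|E| = q ^ 6`, and `ζ ^ (q ^ i)`, `ζ ^ (k q ^ i)` (`i < 6`) are roots of `m`; two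
families of six distinct roots of a polynomial of degree at most `7` meet.
-/

universe u

namespace Cfsg.Agent.Lib.Helper65.ReeTor

open Polynomial

/-- Frobenius on evaluations: `f (x ^ q) = f x ^ q` for `f ∈ K[X]`, `|K| = q`. -/
theorem aeval_pow_card {K : Type u} [Field K] [Fintype K] {E : Type u} [Field E] [Algebra K E]
    (f : K[X]) (x : E) : aeval (x ^ Fintype.card K) f = (aeval x f) ^ Fintype.card K := by
  have h := FiniteField.expand_card f
  have h2 := congrArg (aeval x) h
  rw [expand_aeval, map_pow] at h2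
  exact h2

theorem aeval_pow_card_pow {K : Type u} [Field K] [Fintype K] {E : Type u} [Field E]
    [Algebra K E] (f : K[X]) (x : E) (i : ℕ) :
    aeval (x ^ (Fintype.card K ^ i)) f = (aeval x f) ^ (Fintype.card K ^ i) := by
  induction i with
  | zero => simp
  | succ i ih => rw [pow_succ, pow_mul, aeval_pow_card, ih, ← pow_mul]

/-- the powers `q ^ i`, `i < 6`, are distinct modulo `p` -/
theorem pow_modEq_inj (p q : ℕ) (hp : p.Prime) (hpq : ¬ p ∣ q)
    (hlow : ∀ i, 0 < i → i < 6 → ¬ p ∣ q ^ i - 1) {i j : ℕ} (hi : i < 6) (hj : j < 6)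
    (h : q ^ i ≡ q ^ j [MOD p]) : i = j := by
  have key : ∀ i j : ℕ, i ≤ j → j < 6 → q ^ i ≡ q ^ j [MOD p] → i = j := by
    intro i j hij hj h
    by_contra hne
    have hpos : 0 < j - i := by omega
    have hlt : j - i < 6 := by omega
    have h1 : q ^ i * 1 ≡ q ^ i * q ^ (j - i) [MOD p] := by
      rw [mul_one, ← pow_add, Nat.add_sub_cancel' hij]; exact h
    have hcop : Nat.gcd p (q ^ i) = 1 :=
      Nat.Coprime.pow_right _ ((Nat.Prime.coprime_iff_not_dvd hp).mpr hpq)
    have h2 := Nat.ModEq.cancel_left_of_coprime hcop h1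
    have hq1 : 1 ≤ q ^ (j - i) := Nat.one_le_pow _ _ (Nat.pos_of_ne_zero (by
      rintro rfl; exact hpq (dvd_zero p)))
    exact hlow (j - i) hpos hlt ((Nat.modEq_iff_dvd' hq1).mp h2)
  rcases le_total i j with hij | hij
  · exact key i j hij hj h
  · exact (key j i hij hi h.symm).symm

/-- two families of six distinct roots of a polynomial of degree at most seven meet -/
theorem exists_frob_coincidence {E : Type u} [Field E] (f : E[X]) (hf0 : f ≠ 0)
    (hdeg : f.natDegree ≤ 7) (p q : ℕ) (hp : p.Prime) (hpq : ¬ p ∣ q)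
    (hlow : ∀ i, 0 < i → i < 6 → ¬ p ∣ q ^ i - 1)
    (a b : Eˣ) (ha : orderOf a = p) (hb : orderOf b = p)
    (hra : ∀ i, f.IsRoot ((a : E) ^ (q ^ i))) (hrb : ∀ i, f.IsRoot ((b : E) ^ (q ^ i))) :
    ∃ i j, a ^ (q ^ j) = b ^ (q ^ i) := by
  classical
  set A : Finset E := (Finset.range 6).image (fun i => (a : E) ^ (q ^ i)) with hA
  set B : Finset E := (Finset.range 6).image (fun i => (b : E) ^ (q ^ i)) with hB
  have hAc : A.card = 6 := by
    rw [hA, Finset.card_image_of_injOn, Finset.card_range]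
    intro i hi j hj hij
    have hi' : i < 6 := by simpa using hi
    have hj' : j < 6 := by simpa using hj
    have h1 : a ^ (q ^ i) = a ^ (q ^ j) := by
      apply Units.ext
      simpa using hij
    rw [pow_eq_pow_iff_modEq, ha] at h1
    exact pow_modEq_inj p q hp hpq hlow hi' hj' h1
  have hBc : B.card = 6 := by
    rw [hB, Finset.card_image_of_injOn, Finset.card_range]
    intro i hi j hj hij
    have hi' : i < 6 := by simpa using hi
    have hj' : j < 6 := by simpa using hj
    have h1 : b ^ (q ^ i) = b ^ (q ^ j) := by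
      apply Units.ext
      simpa using hij
    rw [pow_eq_pow_iff_modEq, hb] at h1
    exact pow_modEq_inj p q hp hpq hlow hi' hj' h1
  have hAR : A ⊆ f.roots.toFinset := by
    intro x hx
    rw [hA, Finset.mem_image] at hx
    obtain ⟨i, -, rfl⟩ := hx
    rw [Multiset.mem_toFinset, mem_roots hf0]
    exact hra i
  have hBR : B ⊆ f.roots.toFinset := by
    intro x hx
    rw [hB, Finset.mem_image] at hx
    obtain ⟨i, -, rfl⟩ := hx
    rw [Multiset.mem_toFinset, mem_roots hf0]
    exact hrb i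
  have hR : f.roots.toFinset.card ≤ 7 :=
    (Multiset.toFinset_card_le _).trans ((card_roots' f).trans hdeg)
  have hU : (A ∪ B).card ≤ 7 := (Finset.card_le_card (Finset.union_subset hAR hBR)).trans hR
  have hI : (A ∩ B).Nonempty := by
    rw [← Finset.card_pos]
    have := Finset.card_union_add_card_inter A B
    omega
  obtain ⟨x, hx⟩ := hI
  rw [Finset.mem_inter] at hx
  obtain ⟨hxA, hxB⟩ := hx
  rw [hA, Finset.mem_image] at hxA
  rw [hB, Finset.mem_image] at hxB
  obtain ⟨j, -, hj⟩ := hxA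
  obtain ⟨i, -, hi⟩ := hxB
  refine ⟨i, j, ?_⟩
  apply Units.ext
  simpa using hj.trans hi.symm

theorem pkgLA2 : Cfsg.Agent.Lib.Helper17.ReeTor.PkgLA2.{u} := by
  intro K _ _ p _ hpq hp6 z h h' k hz hz1 hh hhz
  classical
  have hp : p.Prime := Fact.out
  have hh' : h' * h = 1 := mul_eq_one_comm.mp hh
  -- `p ∤ k`
  have hpk : ¬ p ∣ k := by
    rintro ⟨t, rfl⟩
    apply hz1
    have h1 : z ^ (p * t) = 1 := by rw [pow_mul, hz, one_pow]
    rw [h1, one_mul] at hhz
    calc z = (h' * h) * z := by rw [hh', one_mul]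
      _ = h' * (h * z) := by rw [mul_assoc]
      _ = h' * h := by rw [hhz]
      _ = 1 := hh'
  have hlow : ∀ i, 0 < i → i < 6 → ¬ p ∣ Fintype.card K ^ i - 1 := by
    intro i hi hi6 hdvd
    have := hp6 i hi (by omega) hdvd
    omega
  -- the minimal polynomial
  have hzint : IsIntegral K z := Algebra.IsIntegral.isIntegral z
  have hm0 : minpoly K z ≠ 0 := minpoly.ne_zero hzint
  have hmdeg : (minpoly K z).natDegree ≤ 7 := by
    have h1 := Matrix.minpoly_dvd_charpoly z
    have h2 := Polynomial.natDegree_le_of_dvd h1 (Matrix.charpoly_monic z).ne_zero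
    rw [Matrix.charpoly_natDegree_eq_dim] at h2
    simpa using h2
  have hmdvd : minpoly K z ∣ (X : K[X]) ^ p - 1 := minpoly.dvd K z (by simp [hz])
  have hgeom : ((X : K[X]) - 1) * ∑ i ∈ Finset.range p, (X : K[X]) ^ i = X ^ p - 1 :=
    mul_geom_sum _ _
  have hpK : (p : K) ≠ 0 := by
    intro h0
    apply hpq
    have h1 : addOrderOf (1 : K) ∣ p := by
      apply addOrderOf_dvd_of_nsmul_eq_zero
      rw [nsmul_eq_mul, mul_one]; exact h0
    have h2 : addOrderOf (1 : K) ≠ 1 := by
      rw [Ne, AddMonoid.addOrderOf_eq_one_iff]; exact one_ne_zero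
    have h3 : addOrderOf (1 : K) = p := by
      rcases (Nat.dvd_prime hp).mp h1 with h | h
      · exact absurd h h2
      · exact h
    rw [← h3]
    exact addOrderOf_dvd_card
  set Φ : K[X] := ∑ i ∈ Finset.range p, (X : K[X]) ^ i with hΦ
  have hncop : ¬ IsCoprime (minpoly K z) Φ := by
    intro hc
    have h1 : minpoly K z ∣ (X : K[X]) - 1 := by
      apply hc.dvd_of_dvd_mul_right
      rw [hgeom]; exact hmdvd
    obtain ⟨c, hc⟩ := h1
    have h2 : aeval z ((X : K[X]) - 1) = 0 := by rw [hc, map_mul, minpoly.aeval, zero_mul]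
    apply hz1
    simpa [sub_eq_zero] using h2
  have hg : ¬ IsUnit (EuclideanDomain.gcd (minpoly K z) Φ) := by
    rwa [EuclideanDomain.gcd_isUnit_iff]
  have hg0 : EuclideanDomain.gcd (minpoly K z) Φ ≠ 0 := by
    intro h0
    rw [EuclideanDomain.gcd_eq_zero_iff] at h0
    exact hm0 h0.1
  obtain ⟨m₁, hirr, hm₁⟩ := WfDvdMonoid.exists_irreducible_factor hg hg0
  have hm₁m : m₁ ∣ minpoly K z := hm₁.trans (EuclideanDomain.gcd_dvd_left _ _)
  have hm₁Φ : m₁ ∣ Φ := hm₁.trans (EuclideanDomain.gcd_dvd_right _ _)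
  have hfact : Fact (Irreducible m₁) := ⟨hirr⟩
  have hm₁0 : m₁ ≠ 0 := hirr.ne_zero
  -- the field `E = K[X]/(m₁)` and the class `ζ` of `X`
  have hroot : ∀ g : K[X], m₁ ∣ g → aeval (AdjoinRoot.root m₁) g = 0 := by
    intro g hg
    rw [AdjoinRoot.aeval_eq, AdjoinRoot.mk_eq_zero]; exact hg
  have hζm : aeval (AdjoinRoot.root m₁) (minpoly K z) = 0 := hroot _ hm₁m
  have hζΦ : aeval (AdjoinRoot.root m₁) Φ = 0 := hroot _ hm₁Φ
  have hζp : (AdjoinRoot.root m₁) ^ p = 1 := by
    have h1 := congrArg (aeval (AdjoinRoot.root m₁)) hgeom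
    rw [map_mul, hζΦ, mul_zero] at h1
    have h2 : (0 : AdjoinRoot m₁) = (AdjoinRoot.root m₁) ^ p - 1 := by simpa using h1
    exact sub_eq_zero.mp h2.symm
  have hpE : (p : AdjoinRoot m₁) ≠ 0 := by
    intro h0
    apply hpK
    have h1 : algebraMap K (AdjoinRoot m₁) (p : K) = 0 := by simpa using h0
    exact (map_eq_zero (algebraMap K (AdjoinRoot m₁))).mp h1
  have hζ1 : AdjoinRoot.root m₁ ≠ 1 := by
    intro h1
    rw [h1] at hζΦ
    apply hpE
    simpa [hΦ, map_sum] using hζΦ
  have hζ0 : AdjoinRoot.root m₁ ≠ 0 := by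
    intro h0
    rw [h0, zero_pow hp.ne_zero] at hζp
    exact zero_ne_one hζp
  set a : (AdjoinRoot m₁)ˣ := Units.mk0 (AdjoinRoot.root m₁) hζ0 with ha_def
  have ha : orderOf a = p := by
    apply orderOf_eq_prime
    · apply Units.ext
      simpa [ha_def] using hζp
    · intro h1
      apply hζ1
      have := congrArg Units.val h1
      simpa [ha_def] using this
  -- finiteness of `E`
  have hfin : Module.Finite K (AdjoinRoot m₁) := (AdjoinRoot.powerBasis hm₁0).finite
  have hEfin : Finite (AdjoinRoot m₁) := Module.finite_of_finite K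
  have hEft : Fintype (AdjoinRoot m₁) := Fintype.ofFinite _
  have hcard : Fintype.card (AdjoinRoot m₁) = Fintype.card K ^ m₁.natDegree := by
    rw [Module.card_eq_pow_finrank (K := K), (AdjoinRoot.powerBasis hm₁0).finrank,
      AdjoinRoot.powerBasis_dim]
  have hd7 : m₁.natDegree ≤ 7 := (natDegree_le_of_dvd hm₁m hm0).trans hmdeg
  have hd0 : 0 < m₁.natDegree := hirr.natDegree_pos
  have hdvd : p ∣ Fintype.card K ^ m₁.natDegree - 1 := by
    rw [← hcard, ← ha]
    have h1 : a ^ (Fintype.card (AdjoinRoot m₁) - 1) = 1 := by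
      apply Units.ext
      simpa [ha_def] using FiniteField.pow_card_sub_one_eq_one (AdjoinRoot.root m₁) hζ0
    exact orderOf_dvd_of_pow_eq_one h1
  have hd6 : m₁.natDegree = 6 := hp6 _ hd0 hd7 hdvd
  rw [hd6] at hdvd
  -- `z ^ k` is a root of the minimal polynomial of `z`
  have hsemi : ∀ f : K[X], h * aeval z f = aeval (z ^ k) f * h := by
    intro f
    induction f using Polynomial.induction_on' with
    | add f g hf hg => simp only [map_add, mul_add, add_mul, hf, hg]
    | monomial n c =>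
      have h1 : h * z ^ n = (z ^ k) ^ n * h := by
        induction n with
        | zero => simp
        | succ n ih => rw [pow_succ, ← mul_assoc, ih, mul_assoc, hhz, ← mul_assoc, ← pow_succ]
      simp only [aeval_monomial]
      rw [Algebra.algebraMap_eq_smul_one, smul_mul_assoc, one_mul, smul_mul_assoc, one_mul,
        mul_smul_comm, h1, smul_mul_assoc]
  have hmk : aeval (z ^ k) (minpoly K z) = 0 := by
    have h1 := hsemi (minpoly K z)
    rw [minpoly.aeval, mul_zero] at h1
    calc aeval (z ^ k) (minpoly K z) = aeval (z ^ k) (minpoly K z) * (h * h') := by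
          rw [hh, mul_one]
      _ = (aeval (z ^ k) (minpoly K z) * h) * h' := by rw [mul_assoc]
      _ = 0 := by rw [← h1, zero_mul]
  have hcomp : minpoly K z ∣ (minpoly K z).comp (X ^ k) := by
    apply minpoly.dvd
    rw [aeval_comp]
    simpa using hmk
  have hζk : aeval ((AdjoinRoot.root m₁) ^ k) (minpoly K z) = 0 := by
    obtain ⟨c, hc⟩ := hcomp
    have h1 : aeval (AdjoinRoot.root m₁) ((minpoly K z).comp (X ^ k)) = 0 := by
      rw [hc, map_mul, hζm, zero_mul]
    rw [aeval_comp] at h1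
    simpa using h1
  -- root counting
  have hb : orderOf (a ^ k) = p := by
    rw [Nat.Coprime.orderOf_pow, ha]
    rw [ha]
    exact (Nat.Prime.coprime_iff_not_dvd hp).mpr hpk
  have hq0 : ∀ i : ℕ, Fintype.card K ^ i ≠ 0 := fun i => pow_ne_zero _ Fintype.card_ne_zero
  have hf0 : (minpoly K z).map (algebraMap K (AdjoinRoot m₁)) ≠ 0 := by
    rwa [Ne, Polynomial.map_eq_zero]
  have hfdeg : ((minpoly K z).map (algebraMap K (AdjoinRoot m₁))).natDegree ≤ 7 := by
    rwa [natDegree_map]
  have hra : ∀ i, ((minpoly K z).map (algebraMap K (AdjoinRoot m₁))).IsRoot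
      ((a : AdjoinRoot m₁) ^ (Fintype.card K ^ i)) := by
    intro i
    rw [IsRoot.def, eval_map_algebraMap]
    have h1 : (a : AdjoinRoot m₁) = AdjoinRoot.root m₁ := rfl
    rw [h1, aeval_pow_card_pow, hζm, zero_pow (hq0 i)]
  have hrb : ∀ i, ((minpoly K z).map (algebraMap K (AdjoinRoot m₁))).IsRoot
      (((a ^ k : (AdjoinRoot m₁)ˣ) : AdjoinRoot m₁) ^ (Fintype.card K ^ i)) := by
    intro i
    rw [IsRoot.def, eval_map_algebraMap]
    have h1 : ((a ^ k : (AdjoinRoot m₁)ˣ) : AdjoinRoot m₁) = (AdjoinRoot.root m₁) ^ k := by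
      rw [Units.val_pow_eq_pow_val]; rfl
    rw [h1, aeval_pow_card_pow, hζk, zero_pow (hq0 i)]
  obtain ⟨i, j, hij⟩ := exists_frob_coincidence _ hf0 hfdeg p (Fintype.card K) hp hpq hlow a
    (a ^ k) ha hb hra hrb
  rw [← pow_mul, pow_eq_pow_iff_modEq, ha] at hij
  -- arithmetic modulo `p`
  have hQ : ((Fintype.card K : ℕ) : ZMod p) ^ 6 = 1 := by
    have h1 : Fintype.card K ^ 6 ≡ 1 [MOD p] :=
      ((Nat.modEq_iff_dvd' (Nat.one_le_pow _ _ Fintype.card_pos)).mpr hdvd).symm
    have h2 := (ZMod.natCast_eq_natCast_iff _ _ _).mpr h1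
    simpa using h2
  have h1 : ((Fintype.card K : ℕ) : ZMod p) ^ j = (k : ZMod p) * (Fintype.card K : ZMod p) ^ i := by
    have h2 := (ZMod.natCast_eq_natCast_iff _ _ _).mpr hij
    simpa using h2
  have hk6 : (k : ZMod p) ^ 6 = 1 := by
    calc (k : ZMod p) ^ 6 = (k : ZMod p) ^ 6 * (((Fintype.card K : ℕ) : ZMod p) ^ 6) ^ i := by
          rw [hQ, one_pow, mul_one]
      _ = ((k : ZMod p) * (Fintype.card K : ZMod p) ^ i) ^ 6 := by ring
      _ = (((Fintype.card K : ℕ) : ZMod p) ^ j) ^ 6 := by rw [h1]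
      _ = (((Fintype.card K : ℕ) : ZMod p) ^ 6) ^ j := by ring
      _ = 1 := by rw [hQ, one_pow]
  have hk6' : k ^ 6 ≡ 1 [MOD p] := by
    apply (ZMod.natCast_eq_natCast_iff _ _ _).mp
    simpa using hk6
  have hk1 : 1 ≤ k ^ 6 := by
    apply Nat.one_le_pow
    rcases Nat.eq_zero_or_pos k with h0 | h0
    · exact absurd (h0 ▸ dvd_zero p) hpk
    · exact h0
  obtain ⟨t, ht⟩ := (Nat.modEq_iff_dvd' hk1).mp hk6'.symm
  have hk6'' : k ^ 6 = 1 + p * t := by omega
  rw [hk6'', pow_add, pow_one, pow_mul, hz, one_pow, mul_one]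

end Cfsg.Agent.Lib.Helper65.ReeTor
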